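import Groth.Agent.Lib.Hensel.Henselization

/-!
# Strict henselizations along ring isomorphisms
-/

set_option autoImplicit false
set_option linter.all false
set_option backward.isDefEq.respectTransparency false

universe u

open IsLocalRing

namespace GrothLib.GeomFact

theorem isLocalHom_compEquiv {A B S : Type u} [CommRing A] [CommRing B] [CommRing S] (e : A ≃+* B)
    [Algebra B S] [IsLocalHom (algebraMap B S)] :
    IsLocalHom ((algebraMap B S).comp e.toRingHom) := ⟨fun a ha ↦
    (MulEquiv.isUnit_map e).mp (isUnit_of_map_unit (algebraMap B S) _ ha)⟩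

/-- A strict henselization of `B` is one of any ring isomorphic to `B`. -/
theorem isStrictHenselization_compEquiv {A B S : Type u} [CommRing A] [IsLocalRing A] [CommRing B]
    [IsLocalRing B] [CommRing S] [IsLocalRing S] [Algebra B S] [IsLocalHom (algebraMap B S)]
    [hB : _root_.Hensel.IsStrictHenselization B S] (e : A ≃+* B) :
    letI := ((algebraMap B S).comp e.toRingHom).toAlgebra
    haveI : IsLocalHom (algebraMap A S) := isLocalHom_compEquiv e
    _root_.Hensel.IsStrictHenselization A S := by
  letI : Algebra A S := ((algebraMap B S).comp e.toRingHom).toAlgebra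
  haveI : IsLocalHom (algebraMap A S) := isLocalHom_compEquiv e
  refine ⟨hB.henselian, ?_, fun T _ _ f hf τ hτ ↦ ?_⟩
  · haveI := hB.isSepClosure
    haveI : IsSepClosed (ResidueField S) := IsSepClosure.sep_closed (ResidueField B)
    haveI : Algebra.IsSeparable (ResidueField B) (ResidueField S) := IsSepClosure.separable
    refine ⟨inferInstance, Algebra.IsSeparable.of_equiv_equiv (ResidueField.mapEquiv e).symm
      (RingEquiv.refl (ResidueField S)) ?_⟩
    refine Ideal.Quotient.ringHom_ext (RingHom.ext fun b ↦ ?_)
    show residue S (algebraMap A S (e.symm b)) = residue S (algebraMap B S b)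
    show residue S (algebraMap B S (e (e.symm b))) = _
    rw [e.apply_symm_apply]
  · haveI : IsLocalHom (f.comp e.symm.toRingHom) := ⟨fun b hb ↦
      (MulEquiv.isUnit_map e.symm).mp (hf.map_nonunit _ hb)⟩
    obtain ⟨g, ⟨hg1, hg2⟩, huniq⟩ := hB.universal T (f.comp e.symm.toRingHom) τ (by
      refine Ideal.Quotient.ringHom_ext (RingHom.ext fun b ↦ ?_)
      show τ (residue S (algebraMap B S b)) = residue T (f (e.symm b))
      have := RingHom.congr_fun hτ (residue A (e.symm b))
      change τ (residue S (algebraMap B S (e (e.symm b)))) = residue T (f (e.symm b)) at this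
      rwa [e.apply_symm_apply] at this)
    refine ⟨g, ⟨?_, hg2⟩, fun g' hg' ↦ huniq g' ⟨?_, hg'.2⟩⟩
    · ext a
      show g (algebraMap B S (e a)) = f a
      have := RingHom.congr_fun hg1 (e a)
      change g (algebraMap B S (e a)) = f (e.symm (e a)) at this
      rwa [e.symm_apply_apply] at this
    · ext b
      show g' (algebraMap B S b) = f (e.symm b)
      have := RingHom.congr_fun hg'.1 (e.symm b)
      change g' (algebraMap B S (e (e.symm b))) = f (e.symm b) at this
      rwa [e.apply_symm_apply] at this

end GrothLib.GeomFact
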